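import Groth.Agent.H28.ExtAlg
import Groth.Agent.BigOpen.Ddual
import Mathlib.LinearAlgebra.CliffordAlgebra.Contraction

/-!
The determinant of a split extension by a free module: `Λ^j M'' ≅ Λ^(r+j) M` when `M'` is free of rank `r`
and `M` is free of rank `r + j`.
-/

set_option autoImplicit false

universe u

open scoped TensorProduct

noncomputable section

namespace Groth.Agent.SmConormal

open H28.ExtAlg CliffordAlgebra

variable {R : Type u} [CommRing R] {M M'' : Type u} [AddCommGroup M] [Module R M]
  [AddCommGroup M''] [Module R M''] {r : ℕ} (f : (Fin r → R) →ₗ[R] M) (p : M →ₗ[R] M'') (σ : M'' →ₗ[R] M)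

/-- The frame of the kernel. -/
def top : ↥(⋀[R]^r (Fin r → R)) := exteriorPower.ιMulti R r fun i => Pi.basisFun R (Fin r) i

/-- Wedge with the frame of the kernel. -/
def wedgeTop {j n : ℕ} (h : r + j = n) : ↥(⋀[R]^j M'') →ₗ[R] ↥(⋀[R]^n M) :=
  (Θ f σ h).comp (TensorProduct.mk R _ _ (top (R := R) (r := r)))

theorem coe_wedgeTop {j n : ℕ} (h : r + j = n) (x : ↥(⋀[R]^j M'')) :
    (wedgeTop f σ h x : ExteriorAlgebra R M) =
      ExteriorAlgebra.ιMulti R r (fun i => f (Pi.basisFun R (Fin r) i)) * ExteriorAlgebra.map σ x.1 := by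
  suffices hh : (Submodule.subtype _).comp (wedgeTop f σ h) =
      (LinearMap.mulLeft R (ExteriorAlgebra.ιMulti R r fun i => f (Pi.basisFun R (Fin r) i))).comp
        ((ExteriorAlgebra.map σ).toLinearMap.comp (Submodule.subtype _)) from LinearMap.congr_fun hh x
  refine exteriorPower.linearMap_ext (AlternatingMap.ext fun b => ?_)
  simp only [LinearMap.compAlternatingMap_apply, LinearMap.comp_apply, Submodule.coe_subtype, wedgeTop, Θ, top,
    TensorProduct.mk_apply, LinearMap.lTensor_tmul, exteriorPower.map_apply_ιMulti, coe_A,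
    exteriorPower.ιMulti_apply_coe, AlgHom.toLinearMap_apply, LinearMap.mulLeft_apply,
    ExteriorAlgebra.map_apply_ιMulti]
  rfl

variable {f p σ}

theorem contract_map (d : Module.Dual R M) (hd : ∀ y, d (σ y) = 0) (x : ExteriorAlgebra R M'') :
    contractLeft d (ExteriorAlgebra.map σ x) = 0 := by
  induction x using CliffordAlgebra.left_induction with
  | algebraMap c => rw [AlgHom.commutes]; exact contractLeft_algebraMap _ d c
  | add a b ha hb => rw [map_add, map_add, ha, hb, add_zero]
  | ι_mul a m ha =>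
    rw [map_mul, show ExteriorAlgebra.map σ (CliffordAlgebra.ι _ m) = CliffordAlgebra.ι _ (σ m) from
      ExteriorAlgebra.map_apply_ι σ m, contractLeft_ι_mul, hd, zero_smul, ha, mul_zero, sub_zero]

theorem contract_ιMulti (d : Module.Dual R M) : ∀ {i : ℕ} (v : Fin i → M), (∀ l, d (v l) = 0) →
    ∀ z : ExteriorAlgebra R M, contractLeft d z = 0 →
      contractLeft d (ExteriorAlgebra.ιMulti R i v * z) = 0 := by
  intro i
  induction i with
  | zero => intro v _ z hz; rw [ExteriorAlgebra.ιMulti_zero_apply, one_mul]; exact hz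
  | succ i ih =>
    intro v hv z hz
    rw [ExteriorAlgebra.ιMulti_succ_apply, mul_assoc]
    refine (contractLeft_ι_mul _ _ _).trans ?_
    rw [hv 0, zero_smul, zero_sub, neg_eq_zero]
    exact mul_eq_zero_of_right _ (ih (fun l => v l.succ) (fun l => hv l.succ) z hz)

theorem eq_zero_of_ιMulti_mul : ∀ {i : ℕ} (v : Fin i → M) (d : Fin i → Module.Dual R M)
    (_ : ∀ a b, d a (v b) = if a = b then 1 else 0) (z : ExteriorAlgebra R M),
    (∀ a, contractLeft (d a) z = 0) → ExteriorAlgebra.ιMulti R i v * z = 0 → z = 0 := by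
  intro i
  induction i with
  | zero => intro v d _ z _ h; rwa [ExteriorAlgebra.ιMulti_zero_apply, one_mul] at h
  | succ i ih =>
    intro v d hdv z hz h
    rw [ExteriorAlgebra.ιMulti_succ_apply, mul_assoc] at h
    refine ih (fun l => v l.succ) (fun l => d l.succ) (fun a b => by simp [hdv]) z (fun a => hz _) ?_
    have h0 := congrArg (contractLeft (d 0)) h
    rw [map_zero] at h0
    have h1 := contract_ιMulti (d 0) (fun l => v l.succ)
      (fun l => by rw [hdv, if_neg (Fin.succ_ne_zero l).symm]) z (hz 0)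
    have h2 := (contractLeft_ι_mul (Q := (0 : QuadraticForm R M)) (d 0) (v 0)
      (ExteriorAlgebra.ιMulti R i (fun l => v l.succ) * z)).symm.trans h0
    rw [hdv 0 0, if_pos rfl, one_smul, h1, mul_zero, sub_zero] at h2
    exact h2

theorem wedgeTop_injective (hs : Split f p σ) {j n : ℕ} (h : r + j = n) :
    Function.Injective (wedgeTop f σ h) := by
  refine (injective_iff_map_eq_zero _).2 fun x hx => ?_
  choose w hw using fun m : M => hs.ker (m - σ (p m)) (by rw [map_sub, hs.sec, sub_self])
  let q : M →ₗ[R] (Fin r → R) :=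
    { toFun := w
      map_add' := fun a b => hs.inj (by rw [map_add, hw, hw, hw, map_add, map_add]; abel)
      map_smul' := fun c a => hs.inj (by rw [RingHom.id_apply, map_smul, hw, hw, map_smul, map_smul, smul_sub]) }
  have hqf : ∀ a, q (f a) = a := fun a => hs.inj (by
    show f (w (f a)) = f a
    rw [hw, hs.comp, map_zero, sub_zero])
  have hqσ : ∀ y, q (σ y) = 0 := fun y => hs.inj (by
    show f (w (σ y)) = f 0
    rw [hw, hs.sec, sub_self, map_zero])
  have hz : ExteriorAlgebra.map σ x.1 = 0 := by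
    refine eq_zero_of_ιMulti_mul (fun i => f (Pi.basisFun R (Fin r) i)) (fun a => (LinearMap.proj a).comp q)
      (fun a b => by simp [hqf, Pi.single_apply]) _ (fun a => contract_map _ (fun y => by simp [hqσ]) _) ?_
    rw [← coe_wedgeTop f σ h, hx]
    rfl
  refine Subtype.ext ?_
  have h1 := congrArg (ExteriorAlgebra.map p) hz
  rwa [← AlgHom.comp_apply, ExteriorAlgebra.map_comp_map, show p ∘ₗ σ = LinearMap.id from LinearMap.ext hs.sec,
    ExteriorAlgebra.map_id, map_zero] at h1

theorem subsingleton_extPower_of_lt {ι : Type} [Fintype ι] [LinearOrder ι] (b : Module.Basis ι R M) {n : ℕ}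
    (hn : Fintype.card ι < n) : Subsingleton ↥(⋀[R]^n M) := by
  have : IsEmpty (Set.powersetCard ι n) := ⟨fun s => by
    have := Finset.card_le_univ (s : Finset ι)
    rw [s.2] at this
    omega⟩
  exact (b.exteriorPower n).repr.toEquiv.subsingleton

/-- The determinant of a split extension. -/
theorem bijective_wedgeTop (hs : Split f p σ) {j n : ℕ} (b : Module.Basis (Fin n) R M) (h : r + j = n) :
    Function.Bijective (wedgeTop f σ h) := by
  classical
  refine ⟨wedgeTop_injective hs h, fun z => ?_⟩
  obtain ⟨c, rfl⟩ := tot_surjective f hs.sec hs.ker n z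
  have h0 : ∀ k : Fin (n + 1), (k : ℕ) ≠ r → c k = 0 := by
    intro k hk
    rcases lt_or_gt_of_ne hk with hk | hk
    · haveI : Subsingleton ↥(⋀[R]^(r + (n - k)) M) :=
        subsingleton_extPower_of_lt b (by rw [Fintype.card_fin]; omega)
      have : Subsingleton ↥(⋀[R]^(n - k) M'') := (wedgeTop_injective hs rfl).subsingleton
      exact Subsingleton.elim _ _
    · haveI : Subsingleton ↥(⋀[R]^(k : ℕ) (Fin r → R)) :=
        subsingleton_extPower_of_lt (Pi.basisFun R (Fin r)) (by rw [Fintype.card_fin]; omega)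
      exact Subsingleton.elim _ _
  let k₀ : Fin (n + 1) := ⟨r, by omega⟩
  have hc : c = Pi.single k₀ (c k₀) := by
    funext k
    by_cases hk : k = k₀
    · subst hk; rw [Pi.single_eq_same]
    · rw [Pi.single_eq_of_ne hk]
      exact h0 k fun e => hk (Fin.ext e)
  rw [hc, tot_single]
  have key : ∀ (l : ℕ) (hl : r + l = n) (t : ↥(⋀[R]^r (Fin r → R)) ⊗[R] ↥(⋀[R]^l M'')),
      Θ f σ hl t ∈ Set.range (wedgeTop f σ h) := by
    intro l hl t
    obtain rfl : l = j := by omega
    show _ ∈ LinearMap.range (wedgeTop f σ h)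
    induction t using TensorProduct.induction_on with
    | zero => rw [map_zero]; exact zero_mem _
    | add a b ha hb => rw [map_add]; exact add_mem ha hb
    | tmul a x =>
      obtain ⟨s, rfl⟩ := (BigOpen.bijective_smul_topWedge (Pi.basisFun R (Fin r))).2 a
      refine ⟨s • x, ?_⟩
      show Θ f σ hl (top (R := R) (r := r) ⊗ₜ[R] (s • x)) = _
      rw [← TensorProduct.smul_tmul]
      rfl
  exact key _ _ _

/-- `Λ^j M'' ≅ R` for a split extension. -/
theorem nonempty_extPower_equiv (hs : Split f p σ) {j n : ℕ} (b : Module.Basis (Fin n) R M) (h : r + j = n) :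
    Nonempty (↥(⋀[R]^j M'') ≃ₗ[R] R) := by
  let e : R ≃ₗ[R] ↥(⋀[R]^n M) := LinearEquiv.ofBijective (LinearMap.toSpanSingleton R _ (exteriorPower.ιMulti R n fun i => b i))
    (BigOpen.bijective_smul_topWedge b)
  exact ⟨(LinearEquiv.ofBijective (wedgeTop f σ h) (bijective_wedgeTop hs b h)).trans e.symm⟩

end Groth.Agent.SmConormal
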